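import Cfsg.Agent.Lib.KnownSimple.SemisimpleClasses.Matrices

/-!
# Nilpotent matrices are classified by partitions
-/

set_option autoImplicit false

namespace CfsgLib.NilTypes

open Polynomial Module DirectSum CfsgLib.SSClasses

universe u

variable {F : Type u} [Field F]

/-- The module with the given block sizes. -/
abbrev Mdl (F : Type u) [Field F] {ι : Type*} (e : ι → ℕ) : Type _ :=
  ∀ i, F[X] ⧸ Ideal.span {(X : F[X]) ^ e i}

theorem finrank_block (m : ℕ) : finrank F (F[X] ⧸ Ideal.span {(X : F[X]) ^ m}) = m := by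
  rw [finrank_quotient_span_eq_natDegree, natDegree_X_pow]

theorem finite_block (m : ℕ) : Module.Finite F (F[X] ⧸ Ideal.span {(X : F[X]) ^ m}) :=
  (AdjoinRoot.powerBasis (f := (X : F[X]) ^ m) (pow_ne_zero _ X_ne_zero)).finite

instance instFiniteBlock (m : ℕ) : Module.Finite F (F[X] ⧸ Ideal.span {(X : F[X]) ^ m}) := finite_block m

theorem finrank_range_block (m k : ℕ) :
    finrank F (LinearMap.range ((LinearMap.lsmul F[X] (F[X] ⧸ Ideal.span {(X : F[X]) ^ m})
      ((X : F[X]) ^ k)).restrictScalars F)) = m - k := by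
  let g : F[X] →ₗ[F[X]] F[X] ⧸ Ideal.span {(X : F[X]) ^ m} :=
    (LinearMap.lsmul F[X] _ ((X : F[X]) ^ k)).comp (Ideal.Quotient.mkₐ F[X] _).toLinearMap
  have hker : LinearMap.ker g = Ideal.span {(X : F[X]) ^ (m - k)} := by
    ext p
    show (X : F[X]) ^ k • Ideal.Quotient.mk (Ideal.span {(X : F[X]) ^ m}) p = 0 ↔ _
    rw [show (X : F[X]) ^ k • Ideal.Quotient.mk (Ideal.span {(X : F[X]) ^ m}) p =
      Ideal.Quotient.mk _ ((X : F[X]) ^ k * p) from rfl, Ideal.Quotient.eq_zero_iff_mem,
      Ideal.mem_span_singleton, Ideal.mem_span_singleton]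
    rcases Nat.lt_or_ge m k with h | h
    · rw [show m - k = 0 by omega, pow_zero]
      exact ⟨fun _ => one_dvd _, fun _ => (pow_dvd_pow X h.le).trans (dvd_mul_right _ _)⟩
    · rw [show (X : F[X]) ^ m = X ^ k * X ^ (m - k) by rw [← pow_add]; congr 1; omega]
      exact mul_dvd_mul_iff_left (pow_ne_zero _ X_ne_zero)
  have hr : LinearMap.range g = LinearMap.range (LinearMap.lsmul F[X] (F[X] ⧸ Ideal.span {(X : F[X]) ^ m})
      ((X : F[X]) ^ k)) :=
    LinearMap.range_comp_of_range_eq_top _ (LinearMap.range_eq_top.2 Ideal.Quotient.mk_surjective)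
  let e : (F[X] ⧸ Ideal.span {(X : F[X]) ^ (m - k)}) ≃ₗ[F[X]]
      LinearMap.range (LinearMap.lsmul F[X] (F[X] ⧸ Ideal.span {(X : F[X]) ^ m}) ((X : F[X]) ^ k)) :=
    ((Submodule.quotEquivOfEq _ _ hker.symm).trans g.quotKerEquivRange).trans (LinearEquiv.ofEq _ _ hr)
  rw [← finrank_block (F := F) (m - k)]
  exact (e.restrictScalars F).finrank_eq.symm

theorem finrank_mdl {ι : Type*} [Fintype ι] (e : ι → ℕ) : finrank F (Mdl F e) = ∑ i, e i := by
  rw [Module.finrank_pi_fintype]
  exact Finset.sum_congr rfl fun i _ => finrank_block (e i)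

theorem finrank_range_mdl {ι : Type*} [Fintype ι] (e : ι → ℕ) (k : ℕ) :
    finrank F (LinearMap.range ((LinearMap.lsmul F[X] (Mdl F e) ((X : F[X]) ^ k)).restrictScalars F)) =
      ∑ i, (e i - k) := by
  let R : ∀ i, Submodule F (F[X] ⧸ Ideal.span {(X : F[X]) ^ e i}) := fun i =>
    LinearMap.range ((LinearMap.lsmul F[X] (F[X] ⧸ Ideal.span {(X : F[X]) ^ e i}) ((X : F[X]) ^ k)).restrictScalars F)
  have h : LinearMap.range ((LinearMap.lsmul F[X] (Mdl F e) ((X : F[X]) ^ k)).restrictScalars F) =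
      Submodule.pi Set.univ R := by
    ext v
    simp only [LinearMap.mem_range, Submodule.mem_pi, Set.mem_univ, forall_const, R]
    constructor
    · rintro ⟨w, rfl⟩ i
      exact ⟨w i, rfl⟩
    · intro hv
      choose w hw using hv
      exact ⟨w, funext hw⟩
  let eq : Submodule.pi Set.univ R ≃ₗ[F] ∀ i, R i :=
    { toFun := fun v i => ⟨v.1 i, v.2 i trivial⟩
      invFun := fun v => ⟨fun i => (v i).1, fun i _ => (v i).2⟩
      left_inv := fun _ => rfl
      right_inv := fun _ => rfl
      map_add' := fun _ _ => rfl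
      map_smul' := fun _ _ => rfl }
  haveI : ∀ i, Module.Free F (R i) := fun i => Module.Free.of_divisionRing F _
  rw [h, eq.finrank_eq, Module.finrank_pi_fintype]
  exact Finset.sum_congr rfl fun i _ => finrank_range_block (e i) k

/-- Dropping empty blocks. -/
noncomputable def dropEmpty {ι : Type*} (e : ι → ℕ) :
    Mdl F e ≃ₗ[F[X]] Mdl F (fun i : {i // 0 < e i} => e i) where
  toFun v i := v i
  invFun v i := if h : 0 < e i then v ⟨i, h⟩ else 0
  left_inv v := funext fun i => by
    by_cases h : 0 < e i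
    · simp [h]
    · simp only [dif_neg h]
      haveI : Subsingleton (F[X] ⧸ Ideal.span {(X : F[X]) ^ e i}) := by
        rw [Ideal.Quotient.subsingleton_iff, Nat.eq_zero_of_not_pos h, pow_zero, Ideal.span_singleton_one]
      exact Subsingleton.elim _ _
  right_inv v := funext fun i => by simp [i.2]
  map_add' _ _ := rfl
  map_smul' _ _ := rfl

/-- The number of parts exceeding `k` is the drop of the rank. -/
theorem count_drop (s : Multiset ℕ) (k : ℕ) :
    (s.map (· - k)).sum = (s.map (· - (k + 1))).sum + (s.filter (k < ·)).card := by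
  induction s using Multiset.induction with
  | empty => simp
  | cons a s ih =>
    simp only [Multiset.map_cons, Multiset.sum_cons, ih, Multiset.filter_cons]
    split_ifs with h
    · simp only [Multiset.singleton_add, Multiset.card_cons]; omega
    · simp only [zero_add]; omega

theorem eq_of_ranks {s t : Multiset ℕ} (hs : ∀ i ∈ s, 0 < i) (ht : ∀ i ∈ t, 0 < i)
    (h : ∀ k, (s.map (· - k)).sum = (t.map (· - k)).sum) : s = t := by
  have hc : ∀ k, (s.filter (k < ·)).card = (t.filter (k < ·)).card := fun k => by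
    have h1 := count_drop s k
    have h2 := count_drop t k
    have := h k
    have := h (k + 1)
    omega
  have hsplit : ∀ (u : Multiset ℕ) (k : ℕ),
      (u.filter (k < ·)).card = u.count (k + 1) + (u.filter (k + 1 < ·)).card := fun u k => by
    induction u using Multiset.induction with
    | empty => simp
    | cons a u ih =>
      simp only [Multiset.filter_cons, Multiset.count_cons, Multiset.card_add, ih]
      split_ifs <;> simp <;> omega
  ext a
  rcases a with _ | a
  · rw [Multiset.count_eq_zero_of_notMem fun h0 => lt_irrefl 0 (hs 0 h0),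
      Multiset.count_eq_zero_of_notMem fun h0 => lt_irrefl 0 (ht 0 h0)]
  · have h1 := hsplit s a
    have h2 := hsplit t a
    have := hc a
    have := hc (a + 1)
    omega

/-- Blocks of the same sizes give isomorphic modules. -/
theorem nonempty_congr {ι κ : Type*} [Fintype ι] [Fintype κ] (e : ι → ℕ) (f : κ → ℕ)
    (h : Finset.univ.val.map e = Finset.univ.val.map f) : Nonempty (Mdl F e ≃ₗ[F[X]] Mdl F f) := by
  classical
  have hfib : ∀ c, Fintype.card {i // e i = c} = Fintype.card {j // f j = c} := fun c => by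
    have := congrArg (Multiset.count c) h
    rw [Multiset.count_map, Multiset.count_map] at this
    rw [Fintype.card_subtype, Fintype.card_subtype, Finset.card_def, Finset.card_def, Finset.filter_val,
      Finset.filter_val]
    simpa only [eq_comm] using this
  let σ : ι ≃ κ := Equiv.ofFiberEquiv fun c => Fintype.equivOfCardEq (hfib c)
  have hσ : ∀ i, f (σ i) = e i := Equiv.ofFiberEquiv_map _
  let e₁ : Mdl F e ≃ₗ[F[X]] Mdl F (fun i => f (σ i)) :=
    LinearEquiv.piCongrRight fun i =>
      Submodule.quotEquivOfEq _ _ (by simp only [hσ])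
  exact ⟨e₁.trans (LinearEquiv.piCongrLeft F[X] (fun j => F[X] ⧸ Ideal.span {(X : F[X]) ^ f j}) σ)⟩

variable {n : ℕ}

/-- The matrix has the given block sizes. -/
def HasType (A : Matrix (Fin n) (Fin n) F) (P : Nat.Partition n) : Prop :=
  ∀ k, finrank F (LinearMap.range (Matrix.toLin' (A ^ k))) = (P.parts.map (· - k)).sum

theorem hasType_unique {A : Matrix (Fin n) (Fin n) F} {P Q : Nat.Partition n} (hP : HasType A P)
    (hQ : HasType A Q) : P = Q :=
  Nat.Partition.ext (eq_of_ranks (fun _ h => P.parts_pos h) (fun _ h => Q.parts_pos h)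
    fun k => (hP k).symm.trans (hQ k))

theorem smul_pow_matMod (A : Matrix (Fin n) (Fin n) F) (k : ℕ) :
    ((LinearMap.lsmul F[X] (MatMod A) ((X : F[X]) ^ k)).restrictScalars F : MatMod A →ₗ[F] MatMod A) =
      (AEval'.of (Matrix.toLin' A)).conj (Matrix.toLin' (A ^ k)) := by
  refine LinearMap.ext fun x => ?_
  obtain ⟨v, rfl⟩ := (AEval'.of (Matrix.toLin' A)).surjective x
  rw [LinearEquiv.conj_apply_apply, LinearEquiv.symm_apply_apply]
  show (X : F[X]) ^ k • AEval'.of (Matrix.toLin' A) v = _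
  rw [Matrix.toLin'_pow]
  exact AEval.X_pow_smul_of (Matrix.toLin' A) v k

theorem finrank_range_of_iso {M N : Type*} [AddCommMonoid M] [Module F M] [Module F[X] M]
    [IsScalarTower F F[X] M] [AddCommMonoid N] [Module F N] [Module F[X] N] [IsScalarTower F F[X] N]
    (Φ : M ≃ₗ[F[X]] N) (c : F[X]) :
    finrank F (LinearMap.range ((LinearMap.lsmul F[X] M c).restrictScalars F)) =
      finrank F (LinearMap.range ((LinearMap.lsmul F[X] N c).restrictScalars F)) := by
  refine LinearEquiv.finrank_eq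
    { toFun := fun v => ⟨Φ v.1, by obtain ⟨w, hw⟩ := v.2; exact ⟨Φ w, by rw [← hw]; exact (map_smul Φ c w).symm⟩⟩
      invFun := fun v => ⟨Φ.symm v.1, by
        obtain ⟨w, hw⟩ := v.2
        exact ⟨Φ.symm w, by rw [← hw]; exact (map_smul Φ.symm c w).symm⟩⟩
      left_inv := fun v => Subtype.ext (Φ.symm_apply_apply v.1)
      right_inv := fun v => Subtype.ext (Φ.apply_symm_apply v.1)
      map_add' := fun v w => Subtype.ext (map_add Φ v.1 w.1)
      map_smul' := fun a v => Subtype.ext (LinearMap.map_smul_of_tower Φ.toLinearMap a v.1) }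

theorem hasType_of_iso {A : Matrix (Fin n) (Fin n) F} {ι : Type*} [Fintype ι] {e : ι → ℕ}
    (Φ : MatMod A ≃ₗ[F[X]] Mdl F e) (P : Nat.Partition n) (hP : Finset.univ.val.map e = P.parts) :
    HasType A P := by
  intro k
  have h1 := finrank_range_of_iso Φ ((X : F[X]) ^ k)
  rw [finrank_range_mdl, smul_pow_matMod] at h1
  have h2 : finrank F (LinearMap.range ((AEval'.of (Matrix.toLin' A)).conj (Matrix.toLin' (A ^ k)))) =
      finrank F (LinearMap.range (Matrix.toLin' (A ^ k))) := by
    rw [LinearEquiv.conj_apply, LinearMap.comp_assoc, LinearMap.range_comp,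
      LinearMap.range_comp_of_range_eq_top _ (LinearEquiv.range _)]
    exact LinearEquiv.finrank_map_eq _ _
  rw [← h2, h1, ← hP, Multiset.map_map]
  rfl

theorem exists_iso {A : Matrix (Fin n) (Fin n) F} (hA : A ^ n = 0) :
    ∃ (P : Nat.Partition n) (ι : Type u) (_ : Fintype ι) (e : ι → ℕ),
      Finset.univ.val.map e = P.parts ∧ Nonempty (MatMod A ≃ₗ[F[X]] Mdl F e) := by
  classical
  let of := AEval'.of (Matrix.toLin' A)
  haveI : Module.Finite F (MatMod A) := Module.Finite.equiv of
  haveI : Module.Finite F[X] (MatMod A) := Module.Finite.of_restrictScalars_finite F F[X] _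
  have hkill : ∀ x : MatMod A, (X : F[X]) ^ n • x = 0 := fun x => by
    obtain ⟨v, rfl⟩ := of.surjective x
    show (X : F[X]) ^ n • AEval'.of (Matrix.toLin' A) v = 0
    rw [AEval'.X_pow_smul_of, ← Matrix.toLin'_pow, hA, map_zero, zero_smul, map_zero]
  have hT : Module.IsTorsion F[X] (MatMod A) := fun {x} =>
    ⟨⟨(X : F[X]) ^ n, mem_nonZeroDivisors_of_ne_zero (pow_ne_zero _ X_ne_zero)⟩, hkill x⟩
  obtain ⟨ι, hι, p, hp, e, ⟨Φ₀⟩⟩ := Module.equiv_directSum_of_isTorsion hT
  let Φ₁ := Φ₀.trans (DirectSum.linearEquivFunOnFintype F[X] ι fun i => F[X] ⧸ F[X] ∙ p i ^ e i)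
  have hass : ∀ i, Ideal.span {p i ^ e i} = Ideal.span {(X : F[X]) ^ e i} := by
    intro i
    rcases Nat.eq_zero_or_pos (e i) with h0 | h0
    · rw [h0, pow_zero, pow_zero]
    have hdvd : p i ^ e i ∣ (X : F[X]) ^ n := by
      obtain ⟨x, hx⟩ := Φ₁.surjective (Pi.single i (Submodule.Quotient.mk 1))
      have := congrArg (fun v => Φ₁ v i) (hkill x)
      simp only [map_smul, hx, Pi.smul_apply, Pi.single_eq_same, map_zero, Pi.zero_apply] at this
      rw [← Submodule.Quotient.mk_smul, Submodule.Quotient.mk_eq_zero, smul_eq_mul, mul_one] at this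
      exact Ideal.mem_span_singleton.1 this
    have hdX : p i ∣ X := (hp i).prime.dvd_of_dvd_pow ((dvd_pow_self _ h0.ne').trans hdvd)
    rw [Ideal.span_singleton_eq_span_singleton]
    exact ((hp i).associated_of_dvd irreducible_X hdX).pow_pow
  let Φ : MatMod A ≃ₗ[F[X]] Mdl F e :=
    Φ₁.trans (LinearEquiv.piCongrRight fun i => Submodule.quotEquivOfEq _ _ (hass i))
  let s : Multiset ℕ := Finset.univ.val.map fun i : {i // 0 < e i} => e i
  have hsum : s.sum = n := by
    have h := ((Φ.trans (dropEmpty e)).restrictScalars F).finrank_eq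
    rw [finrank_mdl, ← of.finrank_eq, Module.finrank_pi, Fintype.card_fin] at h
    exact h.symm
  exact ⟨⟨s, fun {i} hi => by
    obtain ⟨j, -, rfl⟩ := Multiset.mem_map.1 hi
    exact j.2, hsum⟩, _, inferInstance, _, rfl, ⟨Φ.trans (dropEmpty e)⟩⟩

theorem exists_type {A : Matrix (Fin n) (Fin n) F} (hA : A ^ n = 0) : ∃ P, HasType A P := by
  obtain ⟨P, ι, _, e, he, ⟨Φ⟩⟩ := exists_iso hA
  exact ⟨P, hasType_of_iso Φ P he⟩

theorem conj_of_type {A B : Matrix (Fin n) (Fin n) F} (hA : A ^ n = 0) (hB : B ^ n = 0)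
    {P : Nat.Partition n} (h : HasType A P) (h' : HasType B P) :
    ∃ Q : GL (Fin n) F, (Q : Matrix (Fin n) (Fin n) F) * A = B * (Q : Matrix (Fin n) (Fin n) F) := by
  obtain ⟨PA, ι, _, e, he, ⟨Φ⟩⟩ := exists_iso hA
  obtain ⟨PB, κ, _, f, hf, ⟨Ψ⟩⟩ := exists_iso hB
  obtain rfl := hasType_unique (hasType_of_iso Φ PA he) h
  obtain rfl := hasType_unique (hasType_of_iso Ψ PB hf) h'
  obtain ⟨C⟩ := nonempty_congr (F := F) e f (he.trans hf.symm)
  exact exists_conj_of_equiv ((Φ.trans C).trans Ψ.symm)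

theorem exists_matrix (P : Nat.Partition n) :
    ∃ A : Matrix (Fin n) (Fin n) F, A ^ n = 0 ∧ HasType A P := by
  classical
  let e : P.parts.ToType → ℕ := fun i => i.1
  have he : Finset.univ.val.map e = P.parts := Multiset.map_univ_coe P.parts
  have hdim : finrank F (Mdl F e) = n := by
    rw [finrank_mdl, Finset.sum_eq_multiset_sum, he, P.parts_sum]
  let T : Mdl F e ≃ₗ[F] (Fin n → F) := (Module.finBasisOfFinrankEq F _ hdim).equivFun
  let L : Module.End F (Fin n → F) := T.conj ((LinearMap.lsmul F[X] (Mdl F e) X).restrictScalars F)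
  let A := LinearMap.toMatrix' L
  have hT : ∀ v, T ((X : F[X]) • v) = Matrix.toLin' A (T v) := fun v => by
    rw [Matrix.toLin'_toMatrix', LinearEquiv.conj_apply_apply, LinearEquiv.symm_apply_apply]
    rfl
  let Ψ₀ : Mdl F e ≃ₗ[F] MatMod A := T.trans (AEval'.of (Matrix.toLin' A))
  have hlin : ∀ (c : F[X]) v, Ψ₀ (c • v) = c • Ψ₀ v := by
    intro c
    induction c using Polynomial.induction_on with
    | C a =>
      intro v
      rw [← Polynomial.algebraMap_eq, IsScalarTower.algebraMap_smul, Ψ₀.map_smul, IsScalarTower.algebraMap_smul]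
    | add p q hp hq => intro v; exact ((congrArg Ψ₀ (add_smul p q v)).trans ((Ψ₀.map_add _ _).trans (congrArg₂ (· + ·) (hp v) (hq v)))).trans (add_smul p q _).symm
    | monomial k a ih =>
      intro v
      rw [pow_succ, ← mul_assoc, mul_smul, ih, mul_smul (C a * X ^ k) X]
      congr 1
      show AEval'.of (Matrix.toLin' A) (T ((X : F[X]) • v)) = X • AEval'.of (Matrix.toLin' A) (T v)
      rw [hT, AEval'.X_smul_of]
  let Ψ : Mdl F e ≃ₗ[F[X]] MatMod A := { Ψ₀ with map_smul' := hlin }
  refine ⟨A, ?_, hasType_of_iso Ψ.symm P he⟩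
  refine Matrix.toLin'.injective (LinearMap.ext fun w => ?_)
  have hpart : ∀ i : P.parts.ToType, e i ≤ n := fun i => by
    have := Multiset.le_sum_of_mem (Multiset.coe_mem (x := i))
    rwa [P.parts_sum] at this
  have h0 : ∀ v : Mdl F e, (X : F[X]) ^ n • v = 0 := fun v => funext fun i => by
    obtain ⟨p, hp⟩ := Ideal.Quotient.mk_surjective (v i)
    rw [Pi.smul_apply, ← hp]
    exact Ideal.Quotient.eq_zero_iff_mem.2 (Ideal.mem_span_singleton.2
      ((pow_dvd_pow X (hpart i)).trans (dvd_mul_right _ _)))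
  obtain ⟨v, hv⟩ := Ψ.surjective (AEval'.of (Matrix.toLin' A) w)
  have h1 : (X : F[X]) ^ n • AEval'.of (Matrix.toLin' A) w = 0 := by
    rw [← hv, ← map_smul, h0, map_zero]
  rw [AEval'.X_pow_smul_of, ← Matrix.toLin'_pow, LinearEquiv.map_eq_zero_iff] at h1
  rw [map_zero]
  exact h1

/-- Unipotent classes of the general linear group correspond to partitions. -/
theorem card_unipotent_classes [Fintype F] (p : ℕ) [Fact p.Prime] [CharP F p] :
    Nat.card {C : ConjClasses (GL (Fin n) F) //
      ∃ g : GL (Fin n) F, (∃ k : ℕ, orderOf g = p ^ k) ∧ ConjClasses.mk g = C} =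
      Fintype.card (Nat.Partition n) := by
  classical
  rcases Nat.eq_zero_or_pos n with hn | hn
  · subst hn
    rw [← Nat.card_eq_fintype_card]
    haveI : Subsingleton (GL (Fin 0) F) := inferInstance
    haveI : Subsingleton (ConjClasses (GL (Fin 0) F)) := ⟨fun a b => by
      obtain ⟨x, rfl⟩ := ConjClasses.mk_surjective a
      obtain ⟨y, rfl⟩ := ConjClasses.mk_surjective b
      rw [Subsingleton.elim x y]⟩
    haveI : Nonempty {C : ConjClasses (GL (Fin 0) F) //
        ∃ g : GL (Fin 0) F, (∃ k : ℕ, orderOf g = p ^ k) ∧ ConjClasses.mk g = C} :=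
      ⟨⟨ConjClasses.mk 1, 1, ⟨0, by simp⟩, rfl⟩⟩
    haveI : Subsingleton (Nat.Partition 0) := inferInstance
    rw [Nat.card_unique, Nat.card_unique]
  haveI : CharP (Matrix (Fin n) (Fin n) F) p := by
    haveI : Nonempty (Fin n) := ⟨⟨0, hn⟩⟩
    exact Matrix.charP p
  have hnil : ∀ g : GL (Fin n) F, (∃ k : ℕ, orderOf g = p ^ k) →
      ((g : Matrix (Fin n) (Fin n) F) - 1) ^ n = 0 := by
    rintro g ⟨k, hk⟩
    have h1 : ((g : Matrix (Fin n) (Fin n) F) - 1) ^ (p ^ k) = 0 := by
      rw [sub_pow_char_pow_of_commute p k (Commute.one_right _), one_pow, ← Units.val_pow_eq_pow_val, ← hk,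
        pow_orderOf_eq_one, Units.val_one, sub_self]
    have h2 : ((g : Matrix (Fin n) (Fin n) F) - 1).charpoly = X ^ n := by
      have := Matrix.isNilpotent_charpoly_sub_pow_of_isNilpotent ⟨p ^ k, h1⟩
      rwa [isNilpotent_iff_eq_zero, sub_eq_zero, Fintype.card_fin] at this
    have h3 := Matrix.aeval_self_charpoly ((g : Matrix (Fin n) (Fin n) F) - 1)
    rwa [h2, map_pow, aeval_X] at h3
  refine (Nat.card_congr (Equiv.ofBijective
    (fun C : {C : ConjClasses (GL (Fin n) F) //
      ∃ g : GL (Fin n) F, (∃ k : ℕ, orderOf g = p ^ k) ∧ ConjClasses.mk g = C} =>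
      (exists_type (hnil _ C.2.choose_spec.1)).choose) ⟨?_, ?_⟩)).trans Nat.card_eq_fintype_card
  · intro C C' h
    refine Subtype.ext ?_
    rw [← C.2.choose_spec.2, ← C'.2.choose_spec.2, ConjClasses.mk_eq_mk_iff_isConj]
    have h1 := (exists_type (hnil _ C.2.choose_spec.1)).choose_spec
    have h2 := (exists_type (hnil _ C'.2.choose_spec.1)).choose_spec
    obtain ⟨Q, hQ⟩ := conj_of_type (hnil _ C.2.choose_spec.1) (hnil _ C'.2.choose_spec.1) h1 (by
      rw [show (exists_type (hnil _ C.2.choose_spec.1)).choose = (exists_type (hnil _ C'.2.choose_spec.1)).choose from h]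
      exact h2)
    rw [mul_sub, sub_mul, mul_one, one_mul, sub_left_inj] at hQ
    exact isConj_iff.2 ⟨Q, mul_inv_eq_iff_eq_mul.2 (Units.ext hQ)⟩
  · intro P
    obtain ⟨A, hA, hAP⟩ := exists_matrix (F := F) P
    have hu : IsUnit (1 + A) := IsNilpotent.isUnit_one_add ⟨n, hA⟩
    obtain ⟨g, hg⟩ := hu
    have hord : ∃ k : ℕ, orderOf g = p ^ k := by
      have : g ^ (p ^ n) = 1 := Units.ext (by
        rw [Units.val_pow_eq_pow_val, hg, add_pow_char_pow_of_commute p n (Commute.one_left _), one_pow,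
          pow_eq_zero_of_le (Nat.lt_pow_self (Fact.out : p.Prime).one_lt).le hA, add_zero, Units.val_one])
      obtain ⟨k, -, hk⟩ := (Nat.dvd_prime_pow Fact.out).1 (orderOf_dvd_of_pow_eq_one this)
      exact ⟨k, hk⟩
    refine ⟨⟨ConjClasses.mk g, g, hord, rfl⟩, ?_⟩
    set ex : ∃ g' : GL (Fin n) F, (∃ k : ℕ, orderOf g' = p ^ k) ∧ ConjClasses.mk g' = ConjClasses.mk g :=
      ⟨g, hord, rfl⟩
    show (exists_type (hnil _ ex.choose_spec.1)).choose = P
    refine hasType_unique (exists_type (hnil _ ex.choose_spec.1)).choose_spec ?_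
    obtain ⟨c, hc⟩ := isConj_iff.1 (ConjClasses.mk_eq_mk_iff_isConj.1 ex.choose_spec.2)
    intro k
    rw [← hAP k]
    have hAc : A = (c : Matrix (Fin n) (Fin n) F) * ((ex.choose : Matrix (Fin n) (Fin n) F) - 1) *
        ((c⁻¹ : GL (Fin n) F) : Matrix (Fin n) (Fin n) F) := by
      rw [mul_sub, sub_mul, ← Units.val_mul, ← Units.val_mul, hc, mul_one, Units.mul_inv, hg,
        add_sub_cancel_left]
    have hpow : A ^ k = (c : Matrix (Fin n) (Fin n) F) * ((ex.choose : Matrix (Fin n) (Fin n) F) - 1) ^ k *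
        ((c⁻¹ : GL (Fin n) F) : Matrix (Fin n) (Fin n) F) := by
      rw [hAc, ← Units.conj_pow]
    let C : (Fin n → F) ≃ₗ[F] (Fin n → F) :=
      LinearEquiv.ofLinearMap (Matrix.toLin' (c : Matrix (Fin n) (Fin n) F))
        (Matrix.toLin' ((c⁻¹ : GL (Fin n) F) : Matrix (Fin n) (Fin n) F))
        (by rw [← Matrix.toLin'_mul, Units.mul_inv, Matrix.toLin'_one])
        (by rw [← Matrix.toLin'_mul, Units.inv_mul, Matrix.toLin'_one])
    rw [hpow, Matrix.toLin'_mul, Matrix.toLin'_mul,
      LinearMap.range_comp_of_range_eq_top _ (show LinearMap.range (Matrix.toLin'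
        ((c⁻¹ : GL (Fin n) F) : Matrix (Fin n) (Fin n) F)) = ⊤ from LinearMap.range_eq_top.2 C.symm.surjective),
      LinearMap.range_comp]
    exact (LinearEquiv.finrank_map_eq C _).symm

end CfsgLib.NilTypes
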